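import Groth.Agent.KFubLib.Enough
import Groth.Agent.KRRRegLib.FlatRes
import Groth.Agent.KRRRegLib.ProjForm
import Groth.Agent.VBResLib.RegPush
import Groth.Agent.VBResLib.KFunct
import Groth.Agent.RelRegLib.Comp
import Groth.Agent.TorIndepLib.Meet
import Groth.Agent.S9349
import Groth.Agent.S4456
import Groth.Agent.S1676

/-!
# Push-forwards of `K₀` of bundles, without models
-/

set_option autoImplicit false
set_option linter.style.haveILetI false
set_option linter.unusedSectionVars false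
set_option backward.isDefEq.respectTransparency false
set_option backward.isDefEq.respectTransparency.types false
set_option maxHeartbeats 1000000

universe u

open CategoryTheory CategoryTheory.Limits AlgebraicGeometry
attribute [local instance] HasDerivedCategory.standard

noncomputable section

namespace KFubLib

open Groth.Agent

variable {X Y Z : Scheme.{u}}

/-- A push-forward along a closed immersion, by resolutions. -/
def PC (i : X ⟶ Y) (ψ : SGA6.Kvb X →+ SGA6.Kvb Y) : Prop :=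
  ∀ F : X.Modules, FlatMod.IsFinLocFree F → ∀ (n : ℕ) (L : ChainComplex Y.Modules ℕ)
    (π : L ⟶ (ChainComplex.single₀ Y.Modules).obj ((Scheme.Modules.pushforward i).obj F)),
    KRR.IsLFRes ((Scheme.Modules.pushforward i).obj F) n L π →
      ψ (KRR.cl X F) = ∑ k ∈ Finset.range (n + 1), (-1 : ℤ) ^ k • KRR.cl Y (L.X k)

/-- A push-forward along projective space. -/
def PP (n : ℕ) (Y : Scheme.{u}) (π : SGA6.Kvb (KRR.PY n Y) →+ SGA6.Kvb Y) : Prop :=
  ∀ F, KRRRegLib.RP n Y F →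
    π (KRR.cl (KRR.PY n Y) F) = KRR.cl Y ((Scheme.Modules.pushforward (KRR.pr n Y)).obj F)

theorem exists_pc [IsNoetherian Y] (hY : KRR.HasEnoughLocFree Y) (i : X ⟶ Y) (hi : Mor2.IsRegularClosedImmersion i) :
    ∃ ψ, PC i ψ := VBResLib.exists_kPush i hi hY

theorem exists_pp [IsNoetherian Y] (n : ℕ) : ∃ π, PP n Y π := KRRRegLib.exists_kPush n Y

/-- Resolutions exist. -/
theorem exists_res [IsNoetherian Y] (hY : KRR.HasEnoughLocFree Y) (i : X ⟶ Y) (hi : Mor2.IsRegularClosedImmersion i)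
    {F : X.Modules} (hF : FlatMod.IsFinLocFree F) :
    ∃ (n : ℕ) (L : ChainComplex Y.Modules ℕ) (π : L ⟶ (ChainComplex.single₀ Y.Modules).obj ((Scheme.Modules.pushforward i).obj F)),
      KRR.IsLFRes ((Scheme.Modules.pushforward i).obj F) n L π := by
  haveI := hi.1
  obtain ⟨d, hd⟩ := VBResLib.exists_pd_push hY hi hF
  exact VBResLib.hasLFRes_of_pd hY (VBResLib.isCoh_push_of_isClosedImmersion i (VBResLib.isCoh_of_vb hF)) hd

/-- A model push-forward is one. -/
theorem isPushCl_eq [IsNoetherian Y] (hY : KRR.HasEnoughLocFree Y) (i : X ⟶ Y) (hi : Mor2.IsRegularClosedImmersion i)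
    {ψ : SGA6.Kvb X →+ SGA6.Kvb Y} (hψ : PC i ψ) {KX KY : Type*} [CommRing KX] [CommRing KY]
    {φX : SGA6.Kvb X →+ KX} {φY : SGA6.Kvb Y →+ KY} {g : KX →+ KY} (hg : KRR.IsPushCl i φX φY g) (z : SGA6.Kvb X) :
    g (φX z) = φY (ψ z) := by
  suffices key : g.comp φX = φY.comp ψ from DFunLike.congr_fun key z
  refine AddMonoidHom.eq_of_eqOn_dense (KHeartLib.clSub_closure_eq_top (KRR.vbP X)) ?_
  rintro _ ⟨F, hF, rfl⟩
  obtain ⟨n, L, π, hL⟩ := exists_res hY i hi hF
  simp only [AddMonoidHom.coe_comp, Function.comp_apply]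
  refine (hg F hF n L π hL).trans (Eq.trans ?_ (congrArg φY (hψ F hF n L π hL)).symm)
  rw [map_sum]
  simp only [map_zsmul]

theorem isPushPr_eq {n : ℕ} [IsNoetherian Y] {π : SGA6.Kvb (KRR.PY n Y) →+ SGA6.Kvb Y} (hπ : PP n Y π)
    {KP KY : Type*} [CommRing KP] [CommRing KY]
    {φP : SGA6.Kvb (KRR.PY n Y) →+ KP} {φY : SGA6.Kvb Y →+ KY} {g : KP →+ KY} (hg : KRR.IsPushPr n Y φP φY g)
    (z : SGA6.Kvb (KRR.PY n Y)) : g (φP z) = φY (π z) := by
  suffices key : g.comp φP = φY.comp π from DFunLike.congr_fun key z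
  refine KRRRegLib.hom_ext_RP fun F hF => ?_
  exact (hg F hF.1 hF.2).trans (congrArg φY (hπ F hF).symm)

/-- Composition. -/
theorem pc_comp [IsNoetherian Y] [IsNoetherian Z] (hYe : KRR.HasEnoughLocFree Y) (hZe : KRR.HasEnoughLocFree Z)
    (f : X ⟶ Y) (g : Y ⟶ Z) (hf : Mor2.IsRegularClosedImmersion f) (hg : Mor2.IsRegularClosedImmersion g)
    {a : SGA6.Kvb X →+ SGA6.Kvb Y} (ha : PC f a) {b : SGA6.Kvb Y →+ SGA6.Kvb Z} (hb : PC g b) :
    PC (f ≫ g) (b.comp a) := by
  haveI := hf.1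
  haveI := hg.1
  haveI := VBResLib.resP_closedUnderIso hZe
  haveI := VBResLib.resP_containsZero hZe
  haveI : PreservesFiniteColimits (Scheme.Modules.pushforward g) :=
    PreservesColimitsOfSize.preservesFiniteColimits.{0, 0} _
  let P := Scheme.Modules.pushforward g
  have hP : ∀ S : ShortComplex Y.Modules, S.ShortExact → (S.map P).ShortExact := fun S hS => hS.map_of_exact P
  have hvb : ∀ E, FlatMod.IsFinLocFree E → VBResLib.resP Z (P.obj E) := fun E hE =>
    (VBResLib.resP_iff hZe).2 ⟨VBResLib.isCoh_push_of_isClosedImmersion g (VBResLib.isCoh_of_vb hE),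
      VBResLib.exists_pd_push hZe hg hE⟩
  have hres : ∀ M, VBResLib.resP Y M → VBResLib.resP Z (P.obj M) := fun M hM =>
    VBResLib.resP_map P hYe hZe hP (fun M hM => VBResLib.isCoh_push_of_isClosedImmersion g hM) hvb hM
  intro F hF m M σ hM
  have hfF : VBResLib.resP Y ((Scheme.Modules.pushforward f).obj F) :=
    (VBResLib.resP_iff hYe).2 ⟨VBResLib.isCoh_push_of_isClosedImmersion f (VBResLib.isCoh_of_vb hF),
      VBResLib.exists_pd_push hYe hf hF⟩
  obtain ⟨n, L, π, hL⟩ := hfF.2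
  let e := (Scheme.Modules.pushforwardComp f g).app F
  have hgfF : VBResLib.resP Z ((Scheme.Modules.pushforward (f ≫ g)).obj F) :=
    (VBResLib.resP Z).prop_of_iso e (hres _ hfF)
  have hterm : ∀ k, ∃ (N : ℕ) (R : ChainComplex Z.Modules ℕ) (ρ : R ⟶ (ChainComplex.single₀ Z.Modules).obj (P.obj (L.X k))),
      KRR.IsLFRes (P.obj (L.X k)) N R ρ := fun k => (hvb _ (hL.finLocFree k)).2
  choose N R ρ hR using hterm
  have key : (∑ j ∈ Finset.range (m + 1), (-1 : ℤ) ^ j • KRR.cl Z (M.X j)) =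
      ∑ k ∈ Finset.range (n + 1), (-1 : ℤ) ^ k •
        ∑ j ∈ Finset.range (N k + 1), (-1 : ℤ) ^ j • KRR.cl Z ((R k).X j) := by
    apply VBResLib.toRes_injective hZe
    rw [VBResLib.toRes_euler hZe hgfF hM, map_sum,
      ← Groth.Agent.KHeartLib.clSub_congr (VBResLib.resP Z) e, show (Scheme.Modules.pushforward f ⋙
        Scheme.Modules.pushforward g).obj F = P.obj ((Scheme.Modules.pushforward f).obj F) from rfl,
      VBResLib.clSub_map_euler P hYe hP hres hfF hL]
    refine Finset.sum_congr rfl fun k _ => ?_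
    rw [map_zsmul, VBResLib.toRes_euler hZe (hvb _ (hL.finLocFree k)) (hR k)]
  rw [key, AddMonoidHom.comp_apply, ha F hF n L π hL, map_sum]
  refine Finset.sum_congr rfl fun k _ => ?_
  rw [map_zsmul, hb (L.X k) (hL.finLocFree k) (N k) (R k) (ρ k) (hR k)]

theorem pc_unique [IsNoetherian Y] (hY : KRR.HasEnoughLocFree Y) (i : X ⟶ Y) (hi : Mor2.IsRegularClosedImmersion i)
    {a b : SGA6.Kvb X →+ SGA6.Kvb Y} (ha : PC i a) (hb : PC i b) : a = b := by
  refine AddMonoidHom.eq_of_eqOn_dense (KHeartLib.clSub_closure_eq_top (KRR.vbP X)) ?_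
  rintro _ ⟨F, hF, rfl⟩
  obtain ⟨n, L, π, hL⟩ := exists_res hY i hi hF
  exact (ha F hF n L π hL).trans (hb F hF n L π hL).symm

theorem pc_congr {i j : X ⟶ Y} (h : i = j) {a : SGA6.Kvb X →+ SGA6.Kvb Y} (ha : PC i a) : PC j a := h ▸ ha

/-- Push-forwards commute. -/
theorem pc_pp_comm {n : ℕ} [IsNoetherian X] [IsNoetherian Y] (hY : KRR.HasEnoughLocFree Y) (i : X ⟶ Y)
    (hi : Mor2.IsRegularClosedImmersion i)
    {a : SGA6.Kvb X →+ SGA6.Kvb Y} (ha : PC i a) {a' : SGA6.Kvb (KRR.PY n X) →+ SGA6.Kvb (KRR.PY n Y)}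
    (ha' : PC (KRR.projSpaceMap n i) a') {bX : SGA6.Kvb (KRR.PY n X) →+ SGA6.Kvb X} (hbX : PP n X bX)
    {bY : SGA6.Kvb (KRR.PY n Y) →+ SGA6.Kvb Y} (hbY : PP n Y bY) :
    a.comp bX = bY.comp a' := by
  have := KRRRegLib.pushCl_pushPr_comm i hi hY (AddMonoidHom.id _) (AddMonoidHom.id _) (AddMonoidHom.id _)
    (AddMonoidHom.id _) a ha a' ha' bX hbX bY hbY
  simpa using this

/-- The base change of a regular immersion is regular. -/
theorem regular_map (n : ℕ) (i : X ⟶ Y) (hi : Mor2.IsRegularClosedImmersion i) :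
    Mor2.IsRegularClosedImmersion (KRR.projSpaceMap n i) := by
  haveI : Smooth (KRR.pr n Y) := RTrivLib.smooth_toBase n Y
  exact RelRegLib.isRegularClosedImmersion_baseChange (KRRRegLib.isPullback_projSpaceMap n i).flip hi

/-- A section of projective space. -/
theorem pp_section {n : ℕ} [IsNoetherian Y] (hY : KRR.HasEnoughLocFree Y) (s : Y ⟶ KRR.PY n Y)
    (hs : s ≫ KRR.pr n Y = 𝟙 Y) {b : SGA6.Kvb (KRR.PY n Y) →+ SGA6.Kvb Y} (hb : PP n Y b) :
    Mor2.IsRegularClosedImmersion s ∧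
      ∀ a : SGA6.Kvb Y →+ SGA6.Kvb (KRR.PY n Y), PC s a → b.comp a = AddMonoidHom.id _ := by
  haveI : Smooth (KRR.pr n Y) := RTrivLib.smooth_toBase n Y
  haveI : IsProper (KRR.pr n Y) := ChowLib.isProper_toBase n Y
  haveI := KRRRegLib.isLocallyNoetherian_PY n Y
  haveI : IsClosedImmersion (s ≫ KRR.pr n Y) := by rw [hs]; infer_instance
  haveI : IsClosedImmersion s := IsClosedImmersion.of_comp s (KRR.pr n Y)
  refine ⟨Groth.Agent.S1676.result (KRR.pr n Y) s hs, fun a ha => ?_⟩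
  haveI := KRRRegLib.vbY_zero (Y := Y)
  refine AddMonoidHom.eq_of_eqOn_dense (Groth.Agent.KHeartLib.clSub_closure_eq_top (KRR.vbP Y)) ?_
  rintro _ ⟨F, hF, rfl⟩
  simp only [AddMonoidHom.coe_comp, Function.comp_apply, AddMonoidHom.id_apply]
  haveI : Coh.IsQCoh F := FinLFAnn.isQCoh_of_isFinLocFree hF
  let p := KRR.pr n Y
  let M := (Scheme.Modules.pushforward s).obj F
  have hc : Coh.IsCoh M := VBResLib.isCoh_push_of_isClosedImmersion s (LocSuppLib.isCoh_of_isFinLocFree hF)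
  have hfl : FlatMod.IsFlatOver p M := by
    refine (Groth.Agent.S9349.result s p F inferInstance).1 ?_
    rw [show s ≫ p = 𝟙 Y from hs]
    exact KRRRegLib.isFlatOver_of_vb (𝟙 Y) hF
  have hreg : KRR.IsRegSheaf n Y M := by
    intro i hi
    haveI : EnoughInjectives Y.Modules := IsGrothendieckAbelian.enoughInjectives.{u}
    haveI : EnoughInjectives (KRR.PY n Y).Modules := IsGrothendieckAbelian.enoughInjectives.{u}
    let O' := Twist.twistOver n Y (-(i : ℤ))
    have hO : FlatMod.IsFinLocFree O' :=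
      AmpleDevLib.isFinLocFree_of_isInvertible (PicPnLib.twistOver_inv n Y _)
    obtain ⟨pf⟩ := _root_.ProjFormLib.nonempty_projection_formula s O' hO F 0
    let G := CohB1.tensorMod ((Scheme.Modules.pullback s).obj O') F
    have hG : FlatMod.IsFinLocFree G := VBResLib.vb_tensor F (KFlatLib.isFinLocFree_pull s hO) hF
    haveI : Coh.IsQCoh G := FinLFAnn.isQCoh_of_isFinLocFree hG
    let e : KRR.twF n Y (-(i : ℤ)) M ≅ (Coh.push s).obj G :=
      HilbPolyLib.congrRight O' (CohBCLib.rpushZero s F).symm ≪≫ pf ≪≫ CohBCLib.rpushZero s G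
    obtain ⟨e'⟩ := Groth.Agent.S4456.result s p G i
    refine IsZero.of_iso ?_ ((Coh.RpushAb p i).mapIso ((QCohLib.toAbF _).mapIso e) ≪≫ e')
    haveI : IsAffineHom (s ≫ p) := by rw [show s ≫ p = 𝟙 Y from hs]; infer_instance
    exact QCohLib.isZero_RpushAb (s ≫ p) G i hi
  obtain ⟨L, π, hL, hsum⟩ := KRRRegLib.exists_lfRes_of_flat M hc hfl hreg
  rw [show a (KZero.clSub (KRR.vbP Y) F) = _ from ha F hF n L π hL, map_sum]
  simp only [map_zsmul]
  refine (hsum b (AddMonoidHom.id _) hb).trans ?_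
  exact Groth.Agent.KHeartLib.clSub_congr (KRR.vbP Y) ((Scheme.Modules.pushforwardComp s p).app F ≪≫
    (Scheme.Modules.pushforwardCongr hs).app F ≪≫ (Scheme.Modules.pushforwardId Y).app F)

/-- **Lifts to projective space.** -/
theorem lift_eq {n : ℕ} [IsNoetherian Y] (hY : KRR.HasEnoughLocFree Y) (i : X ⟶ Y)
    (hi : Mor2.IsRegularClosedImmersion i) (j : X ⟶ KRR.PY n Y) (hj : j ≫ KRR.pr n Y = i)
    {a : SGA6.Kvb X →+ SGA6.Kvb Y} (ha : PC i a) {b : SGA6.Kvb (KRR.PY n Y) →+ SGA6.Kvb Y} (hb : PP n Y b) :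
    Mor2.IsRegularClosedImmersion j ∧
      ∀ c : SGA6.Kvb X →+ SGA6.Kvb (KRR.PY n Y), PC j c → b.comp c = a := by
  haveI := hi.1
  haveI : IsLocallyNoetherian X := LocallyOfFiniteType.isLocallyNoetherian i
  haveI : CompactSpace X := QuasiCompact.compactSpace_of_compactSpace i
  haveI : IsNoetherian X := {}
  have hXe := TorIndepLib.hasEnoughLocFree_closed i hY
  let P1 := CohB1.ProjSpace.toSpec n (ULift.{u} ℤ)
  let s : X ⟶ KRR.PY n X := pullback.lift (j ≫ pullback.fst P1 (specULiftZIsTerminal.from Y)) (𝟙 X)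
    (specULiftZIsTerminal.hom_ext _ _)
  have hs : s ≫ KRR.pr n X = 𝟙 X := pullback.lift_snd _ _ _
  have hsj : s ≫ KRR.projSpaceMap n i = j := by
    refine pullback.hom_ext ?_ ?_
    · simp [s, KRR.projSpaceMap, P1]
    · refine Eq.trans ?_ hj.symm
      simp [s, KRR.projSpaceMap, P1]
      rfl
  haveI := KRRRegLib.isLocallyNoetherian_PY n X
  haveI : IsProper (KRR.pr n X) := ChowLib.isProper_toBase n X
  haveI : CompactSpace (KRR.PY n X) := QuasiCompact.compactSpace_of_compactSpace (KRR.pr n X)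
  haveI : IsNoetherian (KRR.PY n X) := {}
  haveI := KRRRegLib.isLocallyNoetherian_PY n Y
  haveI : IsProper (KRR.pr n Y) := ChowLib.isProper_toBase n Y
  haveI : CompactSpace (KRR.PY n Y) := QuasiCompact.compactSpace_of_compactSpace (KRR.pr n Y)
  haveI : IsNoetherian (KRR.PY n Y) := {}
  have hPX := hasEnoughLocFree_PY (n := n) hXe
  have hPY := hasEnoughLocFree_PY (n := n) hY
  obtain ⟨bX, hbX⟩ := exists_pp (Y := X) n
  obtain ⟨hsreg, hsec⟩ := pp_section hXe s hs hbX
  have hm := regular_map n i hi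
  refine ⟨hsj ▸ RelRegLib.isRegularClosedImmersion_comp _ _ hsreg hm, fun c hc => ?_⟩
  obtain ⟨as, has⟩ := exists_pc hPX s hsreg
  obtain ⟨am, ham⟩ := exists_pc hPY _ hm
  have h1 : c = am.comp as := pc_unique hPY j (hsj ▸ RelRegLib.isRegularClosedImmersion_comp _ _ hsreg hm) hc
    (pc_congr hsj (pc_comp hPX hPY _ _ hsreg hm has ham))
  rw [h1, ← AddMonoidHom.comp_assoc, ← pc_pp_comm hY i hi ha ham hbX hb, AddMonoidHom.comp_assoc, hsec as has,
    AddMonoidHom.comp_id]

/-- Isomorphisms are regular closed immersions. -/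
theorem regular_of_isIso (σ : X ⟶ Y) [IsIso σ] : Mor2.IsRegularClosedImmersion σ := by
  refine ⟨inferInstance, fun z => ?_⟩
  obtain ⟨U, hU, hzU, -⟩ := exists_isAffineOpen_mem_and_subset (X := Y) (x := σ z) (U := ⊤) trivial
  have : Nontrivial Γ(Y, U) := by
    by_contra hc
    haveI := not_nontrivial_iff_subsingleton.1 hc
    haveI : Subsingleton (Y.presheaf.stalk (σ z)) := (Y.presheaf.germ U (σ z) hzU).hom.codomain_trivial
    exact not_subsingleton (Y.presheaf.stalk (σ z)) inferInstance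
  refine ⟨U, hU, hzU, [], RingTheory.Sequence.IsRegular.nil _ _, ?_⟩
  rw [Ideal.ofList_nil, Scheme.Hom.ker_apply σ ⟨U, hU⟩]
  exact (RingHom.injective_iff_ker_eq_bot _).1 (ConcreteCategory.bijective_of_isIso (σ.app U)).1

/-- The push-forward along an isomorphism. -/
theorem pc_iso [IsNoetherian Y] [IsLocallyNoetherian X] (σ : X ⟶ Y) [IsIso σ] {a : SGA6.Kvb X →+ SGA6.Kvb Y} (ha : PC σ a)
    {F : X.Modules} (hF : FlatMod.IsFinLocFree F) (hσF : FlatMod.IsFinLocFree ((Scheme.Modules.pushforward σ).obj F)) :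
    a (KRR.cl X F) = KRR.cl Y ((Scheme.Modules.pushforward σ).obj F) := by
  have h := ha F hF 0 ((ChainComplex.single₀ Y.Modules).obj ((Scheme.Modules.pushforward σ).obj F)) (𝟙 _)
    ⟨fun i => ?_, fun i hi => HomologicalComplex.isZero_single_obj_X (ComplexShape.down ℕ) 0 _ i (by omega),
      inferInstance⟩
  · rw [Finset.sum_range_one, pow_zero, one_smul] at h
    exact h.trans (KHeartLib.clSub_congr (KRR.vbP Y) (HomologicalComplex.singleObjXSelf (ComplexShape.down ℕ) 0 _))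
  · rcases i with _ | i
    · exact hσF
    · exact VBResLib.vb_of_isZero (HomologicalComplex.isZero_single_obj_X (ComplexShape.down ℕ) 0 _ _ (by omega))

end KFubLib

end
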