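import Groth.Agent.KRRRegLib.Bound
import Groth.Agent.KRRRegLib.Gen
import Groth.Agent.KRRRegLib.ClosedBC
import Groth.Agent.FormalCohLib.Counit

/-!
# Enough locally free modules on projective space over a base which has enough
-/

set_option autoImplicit false
set_option linter.all false
set_option backward.isDefEq.respectTransparency false
set_option backward.isDefEq.respectTransparency.types false
set_option maxHeartbeats 1000000

universe u

open CategoryTheory CategoryTheory.Limits AlgebraicGeometry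

noncomputable section

namespace KFubLib

open Groth.Agent KRRRegLib

variable {n : ℕ} {T : Scheme.{u}} [IsNoetherian T]

/-- Twists of coherent modules are coherent. -/
theorem isCoh_twF' {F : (KRR.PY n T).Modules} (hF : Coh.IsCoh F) (d : ℤ) : Coh.IsCoh (KRR.twF n T d F) := by
  haveI := KRRRegLib.isLocallyNoetherian_PY n T
  exact QCohLib.isCoh_of_iso (HilbPolyLib.swapIso _ _) (SerreVanLib.isCoh_tensor hF (PicPnLib.twistOver_inv n T d))

/-- Serre vanishing for coherent modules: high twists are regular. -/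
theorem exists_isRegSheaf_twist {F : (KRR.PY n T).Modules} (hF : Coh.IsCoh F) :
    ∃ N : ℕ, KRR.IsRegSheaf n T (KRR.twF n T (N : ℤ) F) := by
  haveI : IsProper (KRR.pr n T) := ChowLib.isProper_toBase n T
  haveI : IsLocallyNoetherian (KRR.PY n T) := LocallyOfFiniteType.isLocallyNoetherian (KRR.pr n T)
  haveI : Coh.IsQCoh F := hF.1
  have hL := KRRRegLib.isInvertible_O1 (n := n) (T := T)
  have ha : ∀ W : T.Opens, IsAffineOpen W →
      CohB1.IsAmple ((O1 n T).restrict ((KRR.pr n T) ⁻¹ᵁ W).ι) := fun W hW => by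
    haveI : QuasiCompact (𝟙 (KRR.PY n T) ≫ CohB1.ProjSpaceOver.toBase n T) := by
      rw [Category.id_comp]
      exact inferInstanceAs (QuasiCompact (KRR.pr n T))
    have h1 := PnCohLib.isAmple_twist_restrict (𝟙 (KRR.PY n T)) hW
    rw [Category.id_comp] at h1
    have ei := (Scheme.Modules.restrictFunctor ((KRR.pr n T) ⁻¹ᵁ W).ι).mapIso
        ((Scheme.Modules.pullbackId (KRR.PY n T)).app (O1 n T))
    exact AmpleDevLib.isAmple_of_iso h1.1 (HilbPolyLib.isInvertible_of_iso ei h1.1) ei h1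
  obtain ⟨n₀, hn₀⟩ := SerreVanLib.exists_vanishing_rpush (KRR.pr n T) (O1 n T) hL ha F hF
  refine ⟨n₀ + n + 1, fun i hi => ?_⟩
  refine IsZero.of_iso ?_ ((Coh.RpushAb (KRR.pr n T) i).mapIso ((QCohLib.toAbF _).mapIso
    (nonempty_twF_add n T (-(i : ℤ)) ((n₀ + n + 1 : ℕ) : ℤ) F).some))
  rcases Nat.lt_or_ge n i with h | h
  · exact V_big F i h _
  · obtain ⟨m, hm⟩ : ∃ m : ℕ, (-(i : ℤ)) + ((n₀ + n + 1 : ℕ) : ℤ) = m := ⟨n₀ + n + 1 - i, by omega⟩
    obtain ⟨e⟩ := nonempty_pow_O1 n T m
    let e' : CohB1.tensorMod F (CohB1.tensorPow (O1 n T) m) ≅ KRR.twF n T (m : ℤ) F :=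
      HilbPolyLib.congrRight F e ≪≫ HilbPolyLib.swapIso F _
    rw [hm]
    exact (hn₀ m (by omega) i hi).of_iso ((Coh.RpushAb (KRR.pr n T) i).mapIso ((QCohLib.toAbF _).mapIso e')).symm

/-- Projective space over a scheme with enough locally free modules has enough. -/
theorem hasEnoughLocFree_PY (hT : KRR.HasEnoughLocFree T) : KRR.HasEnoughLocFree (KRR.PY n T) := by
  intro G hG
  haveI := KRRRegLib.isLocallyNoetherian_PY n T
  haveI : IsProper (KRR.pr n T) := ChowLib.isProper_toBase n T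
  obtain ⟨N, hN⟩ := exists_isRegSheaf_twist hG
  let F := KRR.twF n T (N : ℤ) G
  have hFc : Coh.IsCoh F := isCoh_twF' hG _
  haveI := hFc.1
  haveI := KRRRegLib.epi_counit hN
  obtain ⟨E, p, hE, hp⟩ := hT _ (FormalCohLib.isCoh_push_proper (KRR.pr n T) hFc)
  haveI := (Scheme.Modules.pullbackPushforwardAdjunction (KRR.pr n T)).isLeftAdjoint
  haveI := isEquivalence_twFun n T (-(N : ℤ))
  let q : (Scheme.Modules.pullback (KRR.pr n T)).obj E ⟶ F :=
    (Scheme.Modules.pullback (KRR.pr n T)).map p ≫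
      (Scheme.Modules.pullbackPushforwardAdjunction (KRR.pr n T)).counit.app F
  haveI : Epi q := by dsimp only [q]; infer_instance
  haveI : Epi ((twFun n T (-(N : ℤ))).map q) := inferInstance
  let e : KRR.twF n T (-(N : ℤ)) F ≅ G := (nonempty_twF_add n T (-(N : ℤ)) (N : ℤ) G).some ≪≫
    eqToIso (congrArg (fun d => KRR.twF n T d G) (neg_add_cancel (N : ℤ))) ≪≫ (nonempty_twF_zero G).some
  exact ⟨(twFun n T (-(N : ℤ))).obj ((Scheme.Modules.pullback (KRR.pr n T)).obj E),
    (twFun n T (-(N : ℤ))).map q ≫ e.hom, vb_twF (KFlatLib.isFinLocFree_pull _ hE) _, epi_comp _ _⟩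

end KFubLib

end
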