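import Groth.Agent.KFubLib.Swap

/-!
# The push-forward does not depend on the factorisation, and is functorial
-/

set_option autoImplicit false
set_option linter.style.haveILetI false
set_option linter.unusedSectionVars false
set_option backward.isDefEq.respectTransparency false
set_option backward.isDefEq.respectTransparency.types false
set_option maxHeartbeats 1000000

universe u

open CategoryTheory CategoryTheory.Limits AlgebraicGeometry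
attribute [local instance] HasDerivedCategory.standard

noncomputable section

namespace KFubLib

open Groth.Agent

variable {X Y Z : Scheme.{u}}

/-- Exchanging the factors under a lift. -/
theorem swap_step {n m : ℕ} [IsNoetherian Y] (hY : KRR.HasEnoughLocFree Y)
    (j : X ⟶ KRR.PY n (KRR.PY m Y)) (hj : Mor2.IsRegularClosedImmersion j)
    {c : SGA6.Kvb X →+ SGA6.Kvb (KRR.PY n (KRR.PY m Y))} (hc : PC j c)
    {bm : SGA6.Kvb (KRR.PY m Y) →+ SGA6.Kvb Y} (hbm : PP m Y bm)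
    {gn : SGA6.Kvb (KRR.PY n (KRR.PY m Y)) →+ SGA6.Kvb (KRR.PY m Y)} (hgn : PP n (KRR.PY m Y) gn)
    {bn : SGA6.Kvb (KRR.PY n Y) →+ SGA6.Kvb Y} (hbn : PP n Y bn)
    {gm : SGA6.Kvb (KRR.PY m (KRR.PY n Y)) →+ SGA6.Kvb (KRR.PY n Y)} (hgm : PP m (KRR.PY n Y) gm) :
    ∃ c' : SGA6.Kvb X →+ SGA6.Kvb (KRR.PY m (KRR.PY n Y)), PC (j ≫ swap n m Y) c' ∧
      bm.comp (gn.comp c) = bn.comp (gm.comp c') := by
  haveI := isNoetherian_PY (n := m) (Y := Y)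
  haveI := isNoetherian_PY (n := n) (Y := Y)
  haveI := isNoetherian_PY (n := n) (Y := KRR.PY m Y)
  haveI := isNoetherian_PY (n := m) (Y := KRR.PY n Y)
  have h1 := hasEnoughLocFree_PY (n := n) (hasEnoughLocFree_PY (n := m) hY)
  have h2 := hasEnoughLocFree_PY (n := m) (hasEnoughLocFree_PY (n := n) hY)
  obtain ⟨s, hs⟩ := exists_pc h2 (swap n m Y) (regular_of_isIso _)
  refine ⟨s.comp c, pc_comp h1 h2 j _ hj (regular_of_isIso _) hc hs, ?_⟩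
  rw [← AddMonoidHom.comp_assoc, fubini hbm hbn hgn hgm hs]
  rfl

/-- **Independence of the factorisation.** -/
theorem indep {n m : ℕ} [IsNoetherian Y] (hY : KRR.HasEnoughLocFree Y)
    (i₁ : X ⟶ KRR.PY n Y) (i₂ : X ⟶ KRR.PY m Y) (h₁ : Mor2.IsRegularClosedImmersion i₁)
    (h₂ : Mor2.IsRegularClosedImmersion i₂) (hf : i₁ ≫ KRR.pr n Y = i₂ ≫ KRR.pr m Y)
    {a₁ : SGA6.Kvb X →+ SGA6.Kvb (KRR.PY n Y)} (ha₁ : PC i₁ a₁) {a₂ : SGA6.Kvb X →+ SGA6.Kvb (KRR.PY m Y)}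
    (ha₂ : PC i₂ a₂) {b₁ : SGA6.Kvb (KRR.PY n Y) →+ SGA6.Kvb Y} (hb₁ : PP n Y b₁)
    {b₂ : SGA6.Kvb (KRR.PY m Y) →+ SGA6.Kvb Y} (hb₂ : PP m Y b₂) : b₁.comp a₁ = b₂.comp a₂ := by
  haveI := isNoetherian_PY (n := m) (Y := Y)
  haveI := isNoetherian_PY (n := n) (Y := Y)
  haveI := isNoetherian_PY (n := n) (Y := KRR.PY m Y)
  have hPm := hasEnoughLocFree_PY (n := m) hY
  have hPn := hasEnoughLocFree_PY (n := n) hY
  let j : X ⟶ KRR.PY n (KRR.PY m Y) := lift' (i₁ ≫ fst' n Y) i₂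
  obtain ⟨gn, hgn⟩ := exists_pp (Y := KRR.PY m Y) n
  obtain ⟨gm, hgm⟩ := exists_pp (Y := KRR.PY n Y) m
  obtain ⟨hj, hjc⟩ := lift_eq hPm i₂ h₂ j (lift'_pr _ _) ha₂ hgn
  obtain ⟨c, hc⟩ := exists_pc (hasEnoughLocFree_PY (n := n) hPm) j hj
  obtain ⟨c', hc', he⟩ := swap_step hY j hj hc hb₂ hgn hb₁ hgm
  have hj' : (j ≫ swap n m Y) ≫ KRR.pr m (KRR.PY n Y) = i₁ := by
    refine ext' ?_ ?_
    · rw [Category.assoc, Category.assoc, swap_pr_fst, lift'_fst]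
    · rw [Category.assoc, Category.assoc, swap_pr_pr, lift'_pr_assoc, hf]
  rw [← hjc c hc, ← (lift_eq hPn i₁ h₁ (j ≫ swap n m Y) hj' ha₁ hgm).2 c' hc']
  exact he.symm

/-- **Functoriality.** -/
theorem functorial {n m l : ℕ} [IsNoetherian Y] (hY : KRR.HasEnoughLocFree Y) [IsNoetherian Z]
    (hZ : KRR.HasEnoughLocFree Z)
    (i : X ⟶ KRR.PY n Y) (hi : Mor2.IsRegularClosedImmersion i)
    (j : Y ⟶ KRR.PY m Z) (hj : Mor2.IsRegularClosedImmersion j)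
    (k : X ⟶ KRR.PY l Z) (hk : Mor2.IsRegularClosedImmersion k)
    (hfg : k ≫ KRR.pr l Z = (i ≫ KRR.pr n Y) ≫ j ≫ KRR.pr m Z)
    {a₁ : SGA6.Kvb X →+ SGA6.Kvb (KRR.PY n Y)} (ha₁ : PC i a₁) {a₂ : SGA6.Kvb Y →+ SGA6.Kvb (KRR.PY m Z)}
    (ha₂ : PC j a₂) {a₃ : SGA6.Kvb X →+ SGA6.Kvb (KRR.PY l Z)} (ha₃ : PC k a₃)
    {b₁ : SGA6.Kvb (KRR.PY n Y) →+ SGA6.Kvb Y} (hb₁ : PP n Y b₁)
    {b₂ : SGA6.Kvb (KRR.PY m Z) →+ SGA6.Kvb Z} (hb₂ : PP m Z b₂)
    {b₃ : SGA6.Kvb (KRR.PY l Z) →+ SGA6.Kvb Z} (hb₃ : PP l Z b₃) :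
    b₃.comp a₃ = (b₂.comp a₂).comp (b₁.comp a₁) := by
  haveI := isNoetherian_PY (n := n) (Y := Y)
  haveI := isNoetherian_PY (n := m) (Y := Z)
  haveI := isNoetherian_PY (n := l) (Y := Z)
  haveI := isNoetherian_PY (n := n) (Y := KRR.PY m Z)
  haveI := isNoetherian_PY (n := l) (Y := KRR.PY m Z)
  haveI := isNoetherian_PY (n := m) (Y := KRR.PY l Z)
  haveI := isNoetherian_PY (n := l) (Y := KRR.PY n (KRR.PY m Z))
  haveI := isNoetherian_PY (n := n) (Y := KRR.PY l (KRR.PY m Z))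
  haveI := isNoetherian_PY (n := n) (Y := KRR.PY m (KRR.PY l Z))
  have hT := hasEnoughLocFree_PY (n := m) hZ
  have hQ := hasEnoughLocFree_PY (n := n) hT
  have hPl := hasEnoughLocFree_PY (n := l) hZ
  have hlT := hasEnoughLocFree_PY (n := l) hT
  have hml := hasEnoughLocFree_PY (n := m) hPl
  -- the composite over `P^n` of `P^m_Z`
  have hmap := regular_map n j hj
  obtain ⟨aj, haj⟩ := exists_pc hQ _ hmap
  obtain ⟨gn, hgn⟩ := exists_pp (Y := KRR.PY m Z) n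
  have hk' := RelRegLib.isRegularClosedImmersion_comp _ _ hi hmap
  have hk'c := pc_comp (hasEnoughLocFree_PY (n := n) hY) hQ i _ hi hmap ha₁ haj
  have e1 : (b₂.comp a₂).comp (b₁.comp a₁) = b₂.comp (gn.comp (aj.comp a₁)) := by
    refine AddMonoidHom.ext fun z => ?_
    exact congrArg b₂ (DFunLike.congr_fun (pc_pp_comm hT j hj ha₂ haj hb₁ hgn) (a₁ z))
  -- add `P^l`
  let k' := i ≫ KRR.projSpaceMap n j
  let J : X ⟶ KRR.PY l (KRR.PY n (KRR.PY m Z)) := lift' (k ≫ fst' l Z) k'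
  obtain ⟨glQ, hglQ⟩ := exists_pp (Y := KRR.PY n (KRR.PY m Z)) l
  obtain ⟨hJ, hJc⟩ := lift_eq hQ k' hk' J (lift'_pr _ _) hk'c hglQ
  obtain ⟨cJ, hcJ⟩ := exists_pc (hasEnoughLocFree_PY (n := l) hQ) J hJ
  obtain ⟨glT, hglT⟩ := exists_pp (Y := KRR.PY m Z) l
  obtain ⟨gnl, hgnl⟩ := exists_pp (Y := KRR.PY l (KRR.PY m Z)) n
  obtain ⟨c₂, hc₂, e2⟩ := swap_step hT J hJ hcJ hgn hglQ hglT hgnl
  -- exchange `l` and `m`
  obtain ⟨gml, hgml⟩ := exists_pp (Y := KRR.PY l Z) m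
  obtain ⟨s, hs⟩ := exists_pc hml (swap l m Z) (regular_of_isIso _)
  have hsm := regular_map n (swap l m Z) (regular_of_isIso _)
  obtain ⟨s', hs'⟩ := exists_pc (hasEnoughLocFree_PY (n := n) hml) _ hsm
  obtain ⟨gnm, hgnm⟩ := exists_pp (Y := KRR.PY m (KRR.PY l Z)) n
  have e3 : b₂.comp glT = (b₃.comp gml).comp s := fubini hb₂ hb₃ hglT hgml hs
  have e4 : s.comp gnl = gnm.comp s' := pc_pp_comm hml _ (regular_of_isIso _) hs hs' hgnl hgnm
  let J' := (J ≫ swap l n (KRR.PY m Z)) ≫ KRR.projSpaceMap n (swap l m Z)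
  have hJ'' := RelRegLib.isRegularClosedImmersion_comp _ _ hJ (regular_of_isIso (swap l n (KRR.PY m Z)))
  have hc₃ : PC J' (s'.comp c₂) :=
    pc_comp (hasEnoughLocFree_PY (n := n) hlT) (hasEnoughLocFree_PY (n := n) hml) _ _ hJ'' hsm hc₂ hs'
  let K₂ := J' ≫ KRR.pr n (KRR.PY m (KRR.PY l Z))
  have hK₂ : K₂ ≫ KRR.pr m (KRR.PY l Z) = k := by
    have hm' : KRR.projSpaceMap n (swap l m Z) ≫ KRR.pr n (KRR.PY m (KRR.PY l Z)) =
        KRR.pr n (KRR.PY l (KRR.PY m Z)) ≫ swap l m Z := pullback.lift_snd _ _ _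
    simp only [K₂, J', Category.assoc]
    rw [reassoc_of% hm']
    refine ext' ?_ ?_
    · simp only [Category.assoc, swap_pr_fst]
      simp [J]
    · simp only [Category.assoc, swap_pr_pr]
      rw [reassoc_of% (swap_pr_pr l n (KRR.PY m Z))]
      simp only [J, lift'_pr_assoc, k']
      rw [hfg]
      simp only [Category.assoc]
      congr 1
      rw [← Category.assoc (KRR.projSpaceMap n j),
        show KRR.projSpaceMap n j ≫ KRR.pr n (KRR.PY m Z) = KRR.pr n Y ≫ j from pullback.lift_snd _ _ _,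
        Category.assoc]
  obtain ⟨hK₂r, hK₂c⟩ := lift_eq hPl k hk K₂ hK₂ ha₃ hgml
  obtain ⟨cK, hcK⟩ := exists_pc hml K₂ hK₂r
  rw [e1, ← hJc cJ hcJ, e2, ← hK₂c cK hcK, ← (lift_eq hml K₂ hK₂r J' rfl hcK hgnm).2 _ hc₃]
  refine AddMonoidHom.ext fun z => ?_
  exact ((DFunLike.congr_fun e3 (gnl (c₂ z))).trans
    (congrArg (fun w => b₃ (gml w)) (DFunLike.congr_fun e4 (c₂ z)))).symm

end KFubLib

end
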