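import Groth.Agent.KFubLib.Base
import Groth.Agent.VBP1Lib.Tensor

/-!
# Iterated projective spaces: the two orders of pushing forward agree
-/

set_option autoImplicit false
set_option linter.style.haveILetI false
set_option linter.unusedSectionVars false
set_option backward.isDefEq.respectTransparency false
set_option backward.isDefEq.respectTransparency.types false
set_option maxHeartbeats 1000000

universe u

open CategoryTheory CategoryTheory.Limits AlgebraicGeometry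
open KFlatLib (pb)
attribute [local instance] HasDerivedCategory.standard

noncomputable section

namespace KFubLib

open Groth.Agent

variable (n m : ℕ) (Y : Scheme.{u})

/-- The first projection. -/
abbrev fst' : KRR.PY n Y ⟶ CohB1.ProjSpace n (ULift.{u} ℤ) :=
  pullback.fst (CohB1.ProjSpace.toSpec n (ULift.{u} ℤ)) (specULiftZIsTerminal.from Y)

variable {n Y} in
/-- The morphism given by the two components. -/
def lift' {X : Scheme.{u}} (a : X ⟶ CohB1.ProjSpace n (ULift.{u} ℤ)) (b : X ⟶ Y) : X ⟶ KRR.PY n Y :=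
  pullback.lift a b (specULiftZIsTerminal.hom_ext _ _)

variable {n Y} in
@[reassoc (attr := simp)]
theorem lift'_fst {X : Scheme.{u}} (a : X ⟶ CohB1.ProjSpace n (ULift.{u} ℤ)) (b : X ⟶ Y) :
    lift' a b ≫ fst' n Y = a := pullback.lift_fst _ _ _

variable {n Y} in
@[reassoc (attr := simp)]
theorem lift'_pr {X : Scheme.{u}} (a : X ⟶ CohB1.ProjSpace n (ULift.{u} ℤ)) (b : X ⟶ Y) :
    lift' a b ≫ KRR.pr n Y = b := pullback.lift_snd _ _ _

variable {n Y} in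
theorem ext' {X : Scheme.{u}} {a b : X ⟶ KRR.PY n Y} (h₁ : a ≫ fst' n Y = b ≫ fst' n Y)
    (h₂ : a ≫ KRR.pr n Y = b ≫ KRR.pr n Y) : a = b := pullback.hom_ext h₁ h₂

/-- Exchange of the factors. -/
def swap : KRR.PY n (KRR.PY m Y) ⟶ KRR.PY m (KRR.PY n Y) :=
  lift' (KRR.pr n (KRR.PY m Y) ≫ fst' m Y)
    (lift' (fst' n (KRR.PY m Y)) (KRR.pr n (KRR.PY m Y) ≫ KRR.pr m Y))

theorem swap_fst : swap n m Y ≫ fst' m (KRR.PY n Y) = KRR.pr n (KRR.PY m Y) ≫ fst' m Y := lift'_fst _ _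

theorem swap_pr_fst : swap n m Y ≫ KRR.pr m (KRR.PY n Y) ≫ fst' n Y = fst' n (KRR.PY m Y) := by
  simp [swap]

theorem swap_pr_pr : swap n m Y ≫ KRR.pr m (KRR.PY n Y) ≫ KRR.pr n Y = KRR.pr n (KRR.PY m Y) ≫ KRR.pr m Y := by
  simp [swap]

theorem swap_swap : swap n m Y ≫ swap m n Y = 𝟙 _ := by
  refine ext' ?_ (ext' ?_ ?_)
  · rw [Category.assoc, swap_fst, swap_pr_fst, Category.id_comp]
  · simp only [Category.assoc, swap_pr_fst, swap_fst, Category.id_comp]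
  · simp only [Category.assoc, swap_pr_pr, Category.id_comp]

instance : IsIso (swap n m Y) := ⟨swap m n Y, swap_swap n m Y, swap_swap m n Y⟩

/-- The bundle `O(d) ⊠ (O(e) ⊠ E)`. -/
abbrev tw2 (d e : ℤ) (E : Y.Modules) : (KRR.PY n (KRR.PY m Y)).Modules :=
  KRR.twF n (KRR.PY m Y) d (pb (KRR.pr n (KRR.PY m Y)) (KRR.twF m Y e (pb (KRR.pr m Y) E)))

variable {n m Y}

theorem isNoetherian_PY [IsNoetherian Y] : IsNoetherian (KRR.PY n Y) := by
  haveI := KRRRegLib.isLocallyNoetherian_PY n Y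
  haveI : IsProper (KRR.pr n Y) := ChowLib.isProper_toBase n Y
  haveI : CompactSpace (KRR.PY n Y) := QuasiCompact.compactSpace_of_compactSpace (KRR.pr n Y)
  exact {}

theorem vb_tw2 [IsNoetherian Y] (d e : ℤ) {E : Y.Modules} (hE : FlatMod.IsFinLocFree E) :
    FlatMod.IsFinLocFree (tw2 n m Y d e E) := by
  haveI := isNoetherian_PY (n := m) (Y := Y)
  haveI := KRRRegLib.isLocallyNoetherian_PY n (KRR.PY m Y)
  exact KRRRegLib.vb_twF (KFlatLib.isFinLocFree_pull _ (KRRRegLib.vb_twF (KFlatLib.isFinLocFree_pull _ hE) _)) _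

theorem nonempty_tens3 {X : Scheme.{u}} {A A' B B' C C' : X.Modules} (eA : A ≅ A') (eB : B ≅ B') (eC : C ≅ C') :
    Nonempty (CohB1.tensorMod A (CohB1.tensorMod B C) ≅ CohB1.tensorMod B' (CohB1.tensorMod A' C')) :=
  ⟨((VBP1Lib.compIso A B).app C).symm ≪≫ HilbPolyLib.congrLeft (HilbPolyLib.swapIso A B) C ≪≫
    (VBP1Lib.compIso B A).app C ≪≫ HilbPolyLib.congrLeft eB _ ≪≫
    HilbPolyLib.congrRight B' (HilbPolyLib.congrLeft eA C ≪≫ HilbPolyLib.congrRight A' eC)⟩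

/-- The exchange moves the bundles. -/
theorem nonempty_push_tw2 (d e : ℤ) (E : Y.Modules) :
    Nonempty ((Scheme.Modules.pushforward (swap n m Y)).obj (tw2 n m Y d e E) ≅ tw2 m n Y e d E) := by
  let σ := swap n m Y
  let τ := swap m n Y
  let G := tw2 n m Y d e E
  let e₁ : (Scheme.Modules.pushforward σ).obj G ≅ pb τ G :=
    ((Scheme.Modules.pullbackId _).app _).symm ≪≫ (Scheme.Modules.pullbackCongr (swap_swap m n Y).symm).app _ ≪≫
      ((Scheme.Modules.pullbackComp τ σ).app _).symm ≪≫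
      (Scheme.Modules.pullback τ).mapIso (CycKSuppLib.pullPushIso σ G)
  let θ : ∀ {A B : Scheme.{u}} (f : A ⟶ B) (M N : B.Modules),
      pb f (CohB1.tensorMod M N) ≅ CohB1.tensorMod (pb f M) (pb f N) :=
    fun f M N => @asIso _ _ _ _ (KFlatLib.pullθ f M N) (KFlatLib.isIso_pullθ _ _ _)
  let Q := KRR.PY m (KRR.PY n Y)
  have hp : τ ≫ KRR.pr n (KRR.PY m Y) ≫ fst' m Y = fst' m (KRR.PY n Y) := swap_pr_fst m n Y
  have hq : τ ≫ KRR.pr n (KRR.PY m Y) ≫ KRR.pr m Y = KRR.pr m (KRR.PY n Y) ≫ KRR.pr n Y := swap_pr_pr m n Y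
  let A := Twist.twistProjSpace n (ULift.{u} ℤ) d
  let B := Twist.twistProjSpace m (ULift.{u} ℤ) e
  let eL : pb τ G ≅ CohB1.tensorMod (pb (τ ≫ fst' n (KRR.PY m Y)) A)
      (CohB1.tensorMod (pb (τ ≫ KRR.pr n (KRR.PY m Y) ≫ fst' m Y) B)
        (pb (τ ≫ KRR.pr n (KRR.PY m Y) ≫ KRR.pr m Y) E)) :=
    θ τ _ _ ≪≫ HilbPolyLib.congrLeft ((Scheme.Modules.pullbackComp τ (fst' n (KRR.PY m Y))).app A) _ ≪≫
      HilbPolyLib.congrRight _ ((Scheme.Modules.pullbackComp τ (KRR.pr n (KRR.PY m Y))).app _ ≪≫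
        θ (τ ≫ KRR.pr n (KRR.PY m Y)) _ _ ≪≫
        HilbPolyLib.congrLeft ((Scheme.Modules.pullbackComp _ (fst' m Y)).app B ≪≫
          (Scheme.Modules.pullbackCongr (Category.assoc _ _ _)).app B) _ ≪≫
        HilbPolyLib.congrRight _ ((Scheme.Modules.pullbackComp _ (KRR.pr m Y)).app E ≪≫
          (Scheme.Modules.pullbackCongr (Category.assoc _ _ _)).app E))
  let eR : tw2 m n Y e d E ≅ CohB1.tensorMod (pb (fst' m (KRR.PY n Y)) B)
      (CohB1.tensorMod (pb (KRR.pr m (KRR.PY n Y) ≫ fst' n Y) A)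
        (pb (KRR.pr m (KRR.PY n Y) ≫ KRR.pr n Y) E)) :=
    HilbPolyLib.congrRight (Twist.twistOver m (KRR.PY n Y) e) (θ (KRR.pr m (KRR.PY n Y)) _ _ ≪≫
      HilbPolyLib.congrLeft ((Scheme.Modules.pullbackComp (KRR.pr m (KRR.PY n Y)) (fst' n Y)).app A) _ ≪≫
      HilbPolyLib.congrRight _ ((Scheme.Modules.pullbackComp (KRR.pr m (KRR.PY n Y)) (KRR.pr n Y)).app E))
  obtain ⟨e₃⟩ := nonempty_tens3
    ((Scheme.Modules.pullbackCongr (swap_fst m n Y)).app A)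
    ((Scheme.Modules.pullbackCongr hp).app B) ((Scheme.Modules.pullbackCongr hq).app E)
  exact ⟨e₁ ≪≫ eL ≪≫ e₃ ≪≫ eR.symm⟩

/-- Twisting the pull-back, on `K₀`. -/
theorem exists_twPull [IsNoetherian Y] (d : ℤ) : ∃ t : SGA6.Kvb Y →+ SGA6.Kvb (KRR.PY n Y), ∀ E : Y.Modules,
    FlatMod.IsFinLocFree E → t (KRR.cl Y E) = KRR.cl (KRR.PY n Y) (KRR.twF n Y d (pb (KRR.pr n Y) E)) := by
  haveI := KRRRegLib.isLocallyNoetherian_PY n Y
  haveI : (KRR.vbP (KRR.PY n Y)).ContainsZero := ⟨⟨_, isZero_zero _, VBResLib.vb_of_isZero (isZero_zero _)⟩⟩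
  obtain ⟨t, ht⟩ := KHeartLib.exists_lift_sub (KRR.vbP Y)
    (fun E => KRR.cl (KRR.PY n Y) (KRR.twF n Y d (pb (KRR.pr n Y) E))) fun S hS h₁ h₂ h₃ =>
      KHeartLib.clSub_add (KRR.vbP (KRR.PY n Y)) _
        (KRRRegLib.shortExact_twF n Y d (VBResLib.shortExact_pullback_of_vb (KRR.pr n Y) hS h₃))
        (KRRRegLib.vb_twF (KFlatLib.isFinLocFree_pull _ h₁) _) (KRRRegLib.vb_twF (KFlatLib.isFinLocFree_pull _ h₂) _)
        (KRRRegLib.vb_twF (KFlatLib.isFinLocFree_pull _ h₃) _)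
  exact ⟨t, ht⟩

/-- The value of an iterated push-forward. -/
theorem value_tw2 [IsNoetherian Y] {bm : SGA6.Kvb (KRR.PY m Y) →+ SGA6.Kvb Y} (hbm : PP m Y bm)
    {gn : SGA6.Kvb (KRR.PY n (KRR.PY m Y)) →+ SGA6.Kvb (KRR.PY m Y)} (hgn : PP n (KRR.PY m Y) gn)
    {E : Y.Modules} (hE : FlatMod.IsFinLocFree E) (k l : ℕ) (hk : k ≤ n) (hl : l ≤ m) :
    bm (gn (KRR.cl _ (tw2 n m Y (-(k : ℤ)) (-(l : ℤ)) E))) = if k = 0 ∧ l = 0 then KRR.cl Y E else 0 := by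
  haveI := isNoetherian_PY (n := m) (Y := Y)
  have h1 := KRRRegLib.value_twist_pullback gn (AddMonoidHom.id _) hgn
    (KRRRegLib.vb_twF (KFlatLib.isFinLocFree_pull (KRR.pr m Y) hE) (-(l : ℤ))) k hk
  rw [show gn (KRR.cl _ (tw2 n m Y (-(k : ℤ)) (-(l : ℤ)) E)) = _ from h1]
  by_cases h0 : k = 0
  · rw [if_pos h0, AddMonoidHom.id_apply,
      show bm (KRR.cl _ _) = _ from KRRRegLib.value_twist_pullback bm (AddMonoidHom.id _) hbm hE l hl]
    simp [h0]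
  · rw [if_neg h0, map_zero, if_neg (fun h => h0 h.1)]

/-- **Fubini.** -/
theorem fubini [IsNoetherian Y] {bm : SGA6.Kvb (KRR.PY m Y) →+ SGA6.Kvb Y} (hbm : PP m Y bm)
    {bn : SGA6.Kvb (KRR.PY n Y) →+ SGA6.Kvb Y} (hbn : PP n Y bn)
    {gn : SGA6.Kvb (KRR.PY n (KRR.PY m Y)) →+ SGA6.Kvb (KRR.PY m Y)} (hgn : PP n (KRR.PY m Y) gn)
    {gm : SGA6.Kvb (KRR.PY m (KRR.PY n Y)) →+ SGA6.Kvb (KRR.PY n Y)} (hgm : PP m (KRR.PY n Y) gm)
    {s : SGA6.Kvb (KRR.PY n (KRR.PY m Y)) →+ SGA6.Kvb (KRR.PY m (KRR.PY n Y))} (hs : PC (swap n m Y) s) :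
    bm.comp gn = (bn.comp gm).comp s := by
  haveI := isNoetherian_PY (n := m) (Y := Y)
  haveI := isNoetherian_PY (n := n) (Y := Y)
  haveI := isNoetherian_PY (n := n) (Y := KRR.PY m Y)
  haveI := isNoetherian_PY (n := m) (Y := KRR.PY n Y)
  refine KRRRegLib.hom_ext_twist_pullback fun k E' hk hE' => ?_
  obtain ⟨t, ht⟩ := exists_twPull (n := n) (Y := KRR.PY m Y) (-(k : ℤ))
  suffices key : (bm.comp gn).comp t = ((bn.comp gm).comp s).comp t by
    have h := DFunLike.congr_fun key (KRR.cl _ E')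
    simp only [AddMonoidHom.coe_comp, Function.comp_apply, ht E' hE'] at h ⊢
    exact h
  refine KRRRegLib.hom_ext_twist_pullback fun l E hl hE => ?_
  simp only [AddMonoidHom.coe_comp, Function.comp_apply,
    ht _ (KRRRegLib.vb_twF (KFlatLib.isFinLocFree_pull (KRR.pr m Y) hE) (-(l : ℤ)))]
  obtain ⟨e⟩ := nonempty_push_tw2 (n := n) (m := m) (-(k : ℤ)) (-(l : ℤ)) E
  have hv := vb_tw2 (n := m) (m := n) (-(l : ℤ)) (-(k : ℤ)) hE
  haveI : (KRR.vbP (KRR.PY m (KRR.PY n Y))).IsClosedUnderIsomorphisms := VBResLib.vbP_closedUnderIso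
  have h2 : s (KRR.cl _ (tw2 n m Y (-(k : ℤ)) (-(l : ℤ)) E)) = KRR.cl _ (tw2 m n Y (-(l : ℤ)) (-(k : ℤ)) E) :=
    (pc_iso (swap n m Y) hs (vb_tw2 _ _ hE) ((KRR.vbP _).prop_of_iso e.symm hv)).trans
      (KHeartLib.clSub_congr (KRR.vbP _) e)
  rw [show s _ = _ from h2]
  refine (value_tw2 hbm hgn hE k l hk hl).trans (Eq.trans ?_ (value_tw2 hbn hgm hE l k hl hk).symm)
  by_cases h : k = 0 ∧ l = 0
  · rw [if_pos h, if_pos ⟨h.2, h.1⟩]
  · rw [if_neg h, if_neg fun h' => h ⟨h'.2, h'.1⟩]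

end KFubLib

end
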